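import Cfsg.Agent.Lib.Comp.J4s.Perm

set_option maxRecDepth 100000
set_option Elab.async false

namespace Cfsg.Lib.Comp.J4s

universe u

theorem card : Nat.card (cl (gp nets) L) = 244823040 := card_of_ord J4e.n_ord nets_iv nets_rel lb

def Lc : List ℕ := [1,2,3,64,65,66,67,68,69,70,71,72,73,74,75,76,77,78,79,80,81,82,83,84,85,86,87,88,89,90,91,92,93,94,95,96,97,98,99,100,101,102,103,104,105,106,107,108]

theorem cl_lc : cl (gp nets) Lc = cl (gp nets) L := by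
  rw [show Lc = L ++ slp.map (·.1) by decide +kernel]
  exact cl_eq_of_slpB nets_ok (by norm_num) slp_ok

noncomputable def Lv : List Lev := [([2,3,64,65,66,67,68,69,70,71,72,73,74,75,76,77,78,79,80,81,82,83,84,85,86],[1,2,64,66,68,70,74,83,2,64,1,66,74,76,68],0,0,1771),
 ([66,67,68,69,70,71,72,73,74,75,76,77,78,79,80,81,82,83,84,85,86],[2,64,70,72,66,64,2],1771,1771,24),
 ([68,69,72,73,74,75,76,77,78,79,80,81,82,83,84,85,86],[66,66],1772,1772,3),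
 ([68,69,74,75,76,77,78,79,80,81,82,83,84,85,86],[72],1773,1773,2),
 ([76,77,78,79,80,81,82,83,84,85,86],[68,74,68,74,76,76],131,131,20),
 ([82,83,84,85,86],[76,76],1,1,3),
 ([86],[82,83,84],987,987,8),
 ([],[86],427,427,2)]

theorem ex : Exact nets Lv Lc := exact_of_beq (n := 244823040) (by rw [cl_lc]; exact card.le) (by decide +kernel)

noncomputable def tb : ℕ → ℕ → ℕ := tbx 2048 (tbk 11 4 prs11 nets 256)

theorem tb_ok : TbA nets tb := tbA_tbx nets_ok (tbk_eq tr11 (by norm_num) (by norm_num) (by norm_num) nets_ok)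

def B : List ℕ := [0,1771,1772,1773,131,1,987,427]

def civ : ℕ → ℕ := fun x => look (nat_lit 0x6b6c696a67686566636461625f605d5e5b5c595a5758565554535250514e4f4c4d4a4b484946474445424340413f3e3d3c3b3a393837363534333231302f2e2d2c2b2a292827262524232221201f1e1d1c1b1a191817161514131211100f0e0d0c0b0a09080706050402030100) 8 x

def al : ℕ → ℕ := fun x => x

def j1 : List ℕ := []

def j2 : List ℕ := []

theorem ctl : Ctl nets tb B Lc civ (cl (gp nets) L) :=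
  ctl_of tb_ok (by rw [← cl_lc, show B = bases Lv by decide +kernel]; exact ex.isBase nets_ok) (fun _ ha => cl_lc ▸ mem_cl ha) (by decide +kernel)

noncomputable def D0 : List (ℕ × ℕ × List ℕ) := [(96,0,[83,65,66,70,83,86,72,87,87]),
 (95,0,[88,88,73,86,83,71,67,64,83]),
 (94,0,[70,72,88,85,69,67,91,87,80]),
 (93,0,[81,88,92,66,68,85,87,73,71]),
 (92,0,[80,87,89,70,78,84,3,71,90]),
 (91,0,[89,70,2,84,79,71,90,88,81]),
 (90,0,[78,86,79,2,86,66,73,71,65]),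
 (89,0,[64,70,72,67,86,3,78,86,79]),
 (88,0,[80,3,81,75,75,67,67,2,80]),
 (87,0,[81,3,66,66,74,74,80,2,81]),
 (86,0,[85,83,82]),
 (85,0,[78,77]),
 (84,0,[77,78]),
 (83,0,[80,76]),
 (82,0,[81,77]),
 (81,0,[74,68,75]),
 (80,0,[74,69,75]),
 (79,0,[75,68,75,69,74,69]),
 (78,0,[68,75,68,74,69,74]),
 (77,0,[68,74,68,75,68]),
 (76,0,[69,74,69,75,69]),
 (75,0,[72,69,73]),
 (74,0,[72,68,73]),
 (73,0,[66,71]),
 (72,0,[70,67]),
 (71,0,[65,65,3,65]),
 (70,0,[64,2,64,64]),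
 (69,0,[3,64,64,64,64,2]),
 (68,0,[3,65,65,65,65,2]),
 (67,0,[3,64,64,2,64,2,65]),
 (66,0,[64,3,65,3,65,65,2]),
 (2,1,[3]),
 (3,2,[2]),
 (64,3,[1,2,1,3,1,2,1,3,1,3,1,3,1,3,1,2,1,3,1,3,1,3,1,3,1,2,1,3,1]),
 (65,4,[1,2,1,3,1,2,1,2,1,2,1,2,1,3,1,2,1,2,1,2,1,2,1,3,1,2,1,3,1])]

noncomputable def L0 : List ℕ := mapL (·.1) D0

theorem lev0 : (∀ g ∈ cl (gp nets) L, g 0 < 1771) ∧ ∀ g ∈ cl (gp nets) L, g 0 = 0 → g ∈ cl (gp nets) L0 :=
  Exact.ctl nets_ok ex cl_lc (by decide +kernel)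

theorem l0_sub : ∀ a ∈ L0, a ∈ Lc := sub_of_subB (by decide +kernel)

theorem l0_fix : ∀ g ∈ cl (gp nets) L0, g 0 = 0 := fix_letters tb_ok (by decide +kernel)

end Cfsg.Lib.Comp.J4s
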